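import Groth.Agent.S2351
import Groth.Agent.S5866
import Groth.Agent.AlgSpDec.EtCompact
import Groth.Agent.MorLib.RingUnivHomeo

/-!
# The normalization of a geometrically unibranch integral scheme
-/

set_option autoImplicit false
set_option backward.isDefEq.respectTransparency false
universe u
open CategoryTheory AlgebraicGeometry

namespace Groth.Agent.NormUnib

theorem genericPoints_eq_singleton (X : Scheme.{u}) [IsIntegral X] :
    genericPoints X = {genericPoint X} := by
  ext x
  rw [RadPtUnib.mem_genericPoints_iff, Set.mem_singleton_iff]
  refine ⟨fun h => (h _ (genericPoint_specializes x)).symm, ?_⟩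
  rintro rfl z hz
  exact ((genericPoint_specializes z).antisymm hz).eq.symm

theorem isUnivHomeo_normalizationι (X : Scheme.{u}) [IsIntegral X]
    [QuasiCompact (X.fromSpecStalk (genericPoint X))] [QuasiSeparated (X.fromSpecStalk (genericPoint X))]
    (hX : ∀ x : X, CAlg2.IsGeomUnibranch (X.presheaf.stalk x)) :
    FlatMor.IsUnivHomeo (Curv2.normalizationι X) := by
  obtain ⟨hint, -, hsurj, hgen, hres⟩ := S2351.result X
  let ν := Curv2.normalizationι X
  haveI : IsIntegralHom ν := by
    show IsIntegralHom (X.fromSpecStalk (genericPoint X)).fromNormalization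
    infer_instance
  have hfib : ∀ z : Curv2.normalization X, ν z = genericPoint X → z = genericPoint (Curv2.normalization X) :=
    fun z hz => (AlgSpDec.eq_of_specializes_of_isIntegralHom ν (genericPoint_specializes z)
      (hgen.trans hz.symm)).symm
  have hbir : RadPt.IsBirational ν := by
    refine ⟨?_, fun y hy => ?_⟩
    · rw [genericPoints_eq_singleton, genericPoints_eq_singleton]
      exact Set.bijOn_singleton.mpr hgen
    · rw [genericPoints_eq_singleton, Set.mem_singleton_iff] at hy
      subst hy
      refine ⟨fun a b ha hb => (hfib a ha).trans (hfib b hb).symm, fun z hz => ?_⟩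
      obtain rfl := hfib z hz
      exact hres
  haveI : UniversallyInjective ν := ((S5866.result ν hbir).mp hX).2
  haveI : Surjective ν := hsurj
  exact MorLib.isUnivHomeo_of_universallyClosed ν

end Groth.Agent.NormUnib
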