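import Groth.Agent.NormUnib.Basic

/-!
# Normalization in a purely inseparable extension
-/

set_option autoImplicit false
set_option linter.style.haveILetI false
set_option backward.isDefEq.respectTransparency false
set_option backward.isDefEq.respectTransparency.types false
universe u
open CategoryTheory CategoryTheory.Limits AlgebraicGeometry

namespace Groth.Agent.NormUnib

theorem isUnivHomeo_fromNormalization_iff {X Y : Scheme.{u}} (f : X ⟶ Y) [QuasiCompact f] [QuasiSeparated f] :
    FlatMor.IsUnivHomeo f.fromNormalization ↔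
      ∀ U : Y.affineOpens, FlatMor.IsUnivHomeo (Spec.map (f.normalizationDiagramMap.app (.op U.1))) := by
  have key : ∀ (P : MorphismProperty Scheme.{u}) [IsZariskiLocalAtTarget P] [P.RespectsIso],
      P f.fromNormalization ↔ ∀ U : Y.affineOpens, P (Spec.map (f.normalizationDiagramMap.app (.op U.1))) := by
    intro P _ _
    rw [IsZariskiLocalAtTarget.iff_of_iSup_eq_top (P := P) _ (iSup_affineOpens_eq_top Y)]
    refine forall_congr' fun U => ?_
    let e := IsOpenImmersion.isoOfRangeEq (f.fromNormalization ⁻¹ᵁ U).ι (f.normalizationOpenCover.f U)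
      (by simpa using congr($(f.fromNormalization_preimage U).1))
    refine (MorphismProperty.arrow_mk_iso_iff P (Arrow.isoMk e U.2.isoSpec ?_))
    show e.hom ≫ Spec.map (f.normalizationDiagramMap.app (.op U.1)) = (f.fromNormalization ∣_ U.1) ≫ U.2.isoSpec.hom
    rw [← cancel_mono U.2.isoSpec.inv, Category.assoc, Category.assoc, Iso.hom_inv_id, Category.comp_id,
      ← cancel_mono U.1.ι, Category.assoc, Category.assoc, IsAffineOpen.isoSpec_inv_ι, morphismRestrict_ι,
      ← Scheme.Hom.ι_fromNormalization f U, IsOpenImmersion.isoOfRangeEq_hom_fac_assoc]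
  constructor
  · intro h U
    haveI := MorLib.isIntegralHom_of_isUnivHomeo h
    haveI : IsIntegralHom (Spec.map (f.normalizationDiagramMap.app (.op U.1))) :=
      (key @IsIntegralHom).1 inferInstance U
    haveI := (key @UniversallyInjective).1 (MorLib.universallyInjective_of_isUnivHomeo h) U
    haveI := (key @Surjective).1 (MorLib.surjective_of_isUnivHomeo h) U
    exact MorLib.isUnivHomeo_of_universallyClosed _
  · intro h
    haveI : UniversallyInjective f.fromNormalization :=
      (key @UniversallyInjective).2 fun U => MorLib.universallyInjective_of_isUnivHomeo (h U)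
    haveI : Surjective f.fromNormalization :=
      (key @Surjective).2 fun U => MorLib.surjective_of_isUnivHomeo (h U)
    exact MorLib.isUnivHomeo_of_universallyClosed _

/-- Integral closures in a purely inseparable extension. -/
theorem isUnivHomeo_integralClosure {A P Q : Type u} [CommRing A] [CommRing P] [CommRing Q]
    [Algebra A P] [Algebra A Q] (ψ : P →ₐ[A] Q) (hψ : Function.Injective ψ) (q : ℕ)
    (hq : q = 1 ∨ q.Prime ∧ (q : Q) = 0)
    (hpow : ∀ x : Q, ∃ (m : ℕ) (y : P), x ^ q ^ m = ψ y)
    (h : FlatMor.IsUnivHomeo (Spec.map (CommRingCat.ofHom (algebraMap A (integralClosure A P))))) :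
    FlatMor.IsUnivHomeo (Spec.map (CommRingCat.ofHom (algebraMap A (integralClosure A Q)))) := by
  rw [MorLib.RUH.isUnivHomeo_SpecMap_iff] at h ⊢
  let θ : integralClosure A P →ₐ[A] integralClosure A Q :=
    (ψ.comp (integralClosure A P).val).codRestrict _ fun x => x.2.map ψ
  have hθ : Function.Injective θ := fun x y hxy =>
    Subtype.ext (hψ (congrArg Subtype.val hxy))
  have hcomp : θ.toRingHom.comp (algebraMap A (integralClosure A P)) = algebraMap A (integralClosure A Q) :=
    RingHom.ext θ.commutes
  have hint : (algebraMap A (integralClosure A Q)).IsIntegral :=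
    algebraMap_isIntegral_iff.mpr inferInstance
  have hθi : θ.toRingHom.IsIntegral := by
    rw [← hcomp] at hint
    exact RingHom.IsIntegral.tower_top _ _ hint
  refine ⟨hint, fun K _ f g hfg => RingHom.ext fun x => ?_, ?_⟩
  · have he : f.comp θ.toRingHom = g.comp θ.toRingHom :=
      h.2.1 K _ _ (by rw [RingHom.comp_assoc, RingHom.comp_assoc, hcomp]; exact hfg)
    obtain ⟨m, y, hy⟩ := hpow (x : Q)
    have hy' : IsIntegral A y := (isIntegral_algHom_iff ψ hψ).1 (hy ▸ x.2.pow _)
    have hx : x ^ q ^ m = θ ⟨y, hy'⟩ := Subtype.ext (by simpa [θ] using hy)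
    have hfx : f x ^ q ^ m = g x ^ q ^ m := by
      rw [← map_pow, ← map_pow, hx]
      exact RingHom.congr_fun he ⟨y, hy'⟩
    rcases hq with rfl | ⟨hp, h0⟩
    · simpa using hfx
    · haveI : Fact q.Prime := ⟨hp⟩
      have h0' : (q : K) = 0 := by
        rw [← map_natCast f q, show (q : integralClosure A Q) = 0 from Subtype.ext (by simpa using h0), map_zero]
      haveI : CharP K q := by
        rw [← CharP.ringChar_of_prime_eq_zero hp h0']; infer_instance
      rw [← sub_eq_zero]
      exact eq_zero_of_pow_eq_zero (n := q ^ m) (by rw [sub_pow_char_pow, hfx, sub_self])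
  · rw [← hcomp, PrimeSpectrum.comap_comp]
    exact h.2.2.comp (hθi.comap_surjective hθ)

theorem app_properties (K L : Type u) [Field K] [Field L] [Algebra K L] [IsPurelyInseparable K L]
    (V : (Spec (CommRingCat.of K)).Opens) :
    let ψ := ((Spec.map (CommRingCat.ofHom (algebraMap K L))).app V).hom
    Function.Injective ψ ∧ (∀ x, ∃ (m : ℕ) (y : _), x ^ ringExpChar K ^ m = ψ y) ∧
      (ringExpChar K = 1 ∨ (ringExpChar K).Prime ∧
        (ringExpChar K : Γ(Spec (CommRingCat.of L), Spec.map (CommRingCat.ofHom (algebraMap K L)) ⁻¹ᵁ V)) = 0) := by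
  intro ψ
  have hV : V = ⊥ ∨ V = ⊤ := by
    by_cases hV : (V : Set (Spec (CommRingCat.of K))).Nonempty
    · obtain ⟨z, hz⟩ := hV
      haveI : Subsingleton ↥(Spec (CommRingCat.of K)) :=
        inferInstanceAs (Subsingleton (PrimeSpectrum K))
      exact Or.inr (eq_top_iff.2 fun w _ => Subsingleton.elim z w ▸ hz)
    · exact Or.inl (SetLike.coe_injective (Set.not_nonempty_iff_eq_empty.1 hV))
  have hq : ringExpChar K = 1 ∨ (ringExpChar K).Prime ∧ (ringExpChar K : K) = 0 := by
    have h : ExpChar K (ringExpChar K) := inferInstance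
    generalize ringExpChar K = q at h
    cases h with
    | zero => exact Or.inl rfl
    | prime hp => exact Or.inr ⟨hp, CharP.cast_eq_zero K _⟩
  rcases hV with rfl | rfl
  · haveI : Subsingleton Γ(Spec (CommRingCat.of L), Spec.map (CommRingCat.ofHom (algebraMap K L)) ⁻¹ᵁ ⊥) := by
      rw [show Spec.map (CommRingCat.ofHom (algebraMap K L)) ⁻¹ᵁ ⊥ = ⊥ from rfl]
      infer_instance
    exact ⟨Function.injective_of_subsingleton _, fun x => ⟨0, 0, Subsingleton.elim _ _⟩,
      hq.imp_right fun h => ⟨h.1, Subsingleton.elim _ _⟩⟩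
  let eK := (Scheme.ΓSpecIso (CommRingCat.of K))
  let eL := (Scheme.ΓSpecIso (CommRingCat.of L))
  have hnat : ∀ c, ψ c = eL.inv.hom (algebraMap K L (eK.hom.hom c)) := fun c => by
    have h := congrArg (fun g => eL.inv.hom (g.hom c))
      (Scheme.ΓSpecIso_naturality (CommRingCat.ofHom (algebraMap K L)))
    simp only [CommRingCat.hom_comp, RingHom.comp_apply] at h
    exact (Iso.hom_inv_id_apply eL _).symm.trans h
  refine ⟨fun a b hab => ?_, fun x => ?_, hq.imp_right fun h => ⟨h.1, ?_⟩⟩
  · rw [hnat, hnat] at hab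
    exact (ConcreteCategory.bijective_of_isIso eK.hom).1
      ((algebraMap K L).injective ((ConcreteCategory.bijective_of_isIso eL.inv).1 hab))
  · obtain ⟨m, c, hc⟩ := IsPurelyInseparable.pow_mem K (ringExpChar K) (eL.hom.hom x)
    refine ⟨m, eK.inv.hom c, (ConcreteCategory.bijective_of_isIso eL.hom).1 ?_⟩
    rw [hnat]
    show eL.hom.hom (x ^ _) = eL.hom.hom (eL.inv.hom (algebraMap K L (eK.hom.hom (eK.inv.hom c))))
    rw [map_pow, ← hc, Iso.inv_hom_id_apply, Iso.inv_hom_id_apply]
  · rw [← map_natCast ψ, ← map_zero ψ]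
    refine congrArg ψ ((ConcreteCategory.bijective_of_isIso eK.hom).1 ?_)
    show eK.hom.hom _ = eK.hom.hom _
    rw [map_natCast, map_zero]
    exact h.2

theorem isUnivHomeo_fromNormalization_of_purelyInseparable (Y : Scheme.{u}) [IsIntegral Y]
    (hY : ∀ y : Y, CAlg2.IsGeomUnibranch (Y.presheaf.stalk y))
    [QuasiCompact (Y.fromSpecStalk (genericPoint Y))] [QuasiSeparated (Y.fromSpecStalk (genericPoint Y))]
    (L : Type u) [Field L] [Algebra Y.functionField L] [IsPurelyInseparable Y.functionField L]
    [QuasiCompact (Spec.map (CommRingCat.ofHom (algebraMap Y.functionField L)) ≫ Y.fromSpecStalk (genericPoint Y))]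
    [QuasiSeparated (Spec.map (CommRingCat.ofHom (algebraMap Y.functionField L)) ≫ Y.fromSpecStalk (genericPoint Y))] :
    FlatMor.IsUnivHomeo
      (Spec.map (CommRingCat.ofHom (algebraMap Y.functionField L)) ≫ Y.fromSpecStalk (genericPoint Y)).fromNormalization := by
  rw [isUnivHomeo_fromNormalization_iff]
  intro U
  have h := (isUnivHomeo_fromNormalization_iff (Y.fromSpecStalk (genericPoint Y))).1
    (isUnivHomeo_normalizationι Y hY) U
  let j := Y.fromSpecStalk (genericPoint Y)
  let σ := Spec.map (CommRingCat.ofHom (algebraMap Y.functionField L))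
  letI aK := (j.app U.1).hom.toAlgebra
  letI aL := ((σ ≫ j).app U.1).hom.toAlgebra
  obtain ⟨h1, h2, h3⟩ := app_properties Y.functionField L (j ⁻¹ᵁ U.1)
  let ψ : Γ(Spec (CommRingCat.of Y.functionField), j ⁻¹ᵁ U.1) →ₐ[Γ(Y, U.1)]
      Γ(Spec (CommRingCat.of L), (σ ≫ j) ⁻¹ᵁ U.1) :=
    { (σ.app (j ⁻¹ᵁ U.1)).hom with commutes' := fun r => rfl }
  exact isUnivHomeo_integralClosure ψ h1 (ringExpChar Y.functionField) h3 h2 h

end Groth.Agent.NormUnib
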